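import Mathlib

set_option autoImplicit false

namespace Groth.Agent.HarbIncidence

variable {P ι : Type*} (inc : P → ι → Prop) (h : ℕ)

/-- The set of points lying on at least two curves. -/
def multPts : Set P := {p | ∃ i j, i ≠ j ∧ inc p i ∧ inc p j}

theorem setOf_two_le_card [Finite ι] :
    {p : P | 2 ≤ Nat.card {j : ι // inc p j}} = multPts inc := by
  ext p
  simp only [Set.mem_setOf_eq, multPts]
  rw [show (2 ≤ Nat.card {j : ι // inc p j}) ↔ 1 < Nat.card {j : ι // inc p j} from Iff.rfl,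
    Finite.one_lt_card_iff_nontrivial]
  constructor
  · intro hn
    obtain ⟨⟨i, hi⟩, ⟨j, hj⟩, hne⟩ := hn.exists_pair_ne
    exact ⟨i, j, fun e => hne (Subtype.ext e), hi, hj⟩
  · rintro ⟨i, j, hne, hi, hj⟩
    exact ⟨⟨⟨i, hi⟩, ⟨j, hj⟩, fun e => hne (congrArg Subtype.val e)⟩⟩

variable {inc h}
variable (hfin : ∀ i j : ι, i ≠ j → {p : P | inc p i ∧ inc p j}.Finite)
  (hcount : ∀ i j : ι, i ≠ j → {p : P | inc p i ∧ inc p j}.ncard = h)
  (hnone : ∀ p : P, ∃ i : ι, ¬ inc p i)

include hfin in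
theorem finite_multPts [Finite ι] : (multPts inc).Finite := by
  refine Set.Finite.subset (Set.finite_iUnion fun q : {q : ι × ι // q.1 ≠ q.2} =>
    hfin q.1.1 q.1.2 q.2) ?_
  rintro p ⟨i, j, hne, hi, hj⟩
  exact Set.mem_iUnion.mpr ⟨⟨(i, j), hne⟩, hi, hj⟩

include hfin hcount hnone in
theorem lt_ncard_on_curve [Fintype ι] (hh : 0 < h) (hd : 2 ≤ Fintype.card ι) (i : ι) :
    h < {p | p ∈ multPts inc ∧ inc p i}.ncard := by
  obtain ⟨j, hj⟩ := Fintype.exists_ne_of_one_lt_card hd i
  have hF : {p | p ∈ multPts inc ∧ inc p i}.Finite :=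
    (finite_multPts hfin).subset fun p hp => hp.1
  have hsub : ∀ k, k ≠ i →
      {p : P | inc p i ∧ inc p k} ⊆ {p | p ∈ multPts inc ∧ inc p i} :=
    fun k hk p hp => ⟨⟨i, k, hk.symm, hp.1, hp.2⟩, hp.1⟩
  by_contra hle
  rw [not_lt] at hle
  obtain ⟨p, hp⟩ := Set.nonempty_of_ncard_ne_zero
    (by rw [hcount i j hj.symm]; omega : {p : P | inc p i ∧ inc p j}.ncard ≠ 0)
  obtain ⟨k, hk⟩ := hnone p
  have hki : k ≠ i := fun e => hk (e ▸ hp.1)
  have heq := Set.eq_of_subset_of_ncard_le (hsub k hki) (by rw [hcount i k hki.symm]; exact hle) hF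
  have : p ∈ {p : P | inc p i ∧ inc p k} := heq ▸ hsub j hj hp
  exact hk this.2

include hfin hcount hnone in
theorem add_two_le [Fintype ι] (hh : 0 < h) (hd : 2 ≤ Fintype.card ι) :
    h + 2 ≤ (multPts inc).ncard := by
  have hne : Nonempty ι := Fintype.card_pos_iff.mp (by omega)
  obtain ⟨i0⟩ := hne
  obtain ⟨p, hp, -⟩ := Set.nonempty_of_ncard_ne_zero
    (Nat.ne_zero_of_lt (lt_ncard_on_curve hfin hcount hnone hh hd i0))
  obtain ⟨i, hi⟩ := hnone p
  have h1 := lt_ncard_on_curve hfin hcount hnone hh hd i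
  have h2 : {p | p ∈ multPts inc ∧ inc p i}.ncard < (multPts inc).ncard := by
    refine Set.ncard_lt_ncard ⟨fun p hp => hp.1, fun hs => hi (hs hp).2⟩ (finite_multPts hfin)
  omega

include hfin hcount hnone in
theorem card_le [Fintype ι] (hh : 0 < h) (hd : 2 ≤ Fintype.card ι) :
    Fintype.card ι ≤ (multPts inc).ncard := by
  classical
  set s := (finite_multPts hfin).toFinset with hs
  let M : s → ι → ℚ := fun p i => if inc p.1 i then 1 else 0
  have hG : ∀ i j, ∑ p : s, M p i * M p j
      = ({p | p ∈ multPts inc ∧ inc p i ∧ inc p j}.ncard : ℚ) := by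
    intro i j
    have h1 : ∀ p : s, M p i * M p j = if inc p.1 i ∧ inc p.1 j then (1 : ℚ) else 0 := by
      intro p
      show (if inc p.1 i then (1 : ℚ) else 0) * (if inc p.1 j then 1 else 0) = _
      split_ifs <;> simp_all
    rw [Finset.sum_congr rfl fun p _ => h1 p,
      Finset.sum_coe_sort s (fun p => if inc p i ∧ inc p j then (1 : ℚ) else 0), Finset.sum_boole,
      ← Set.ncard_coe_finset]
    congr 2
    ext p
    simp [s]
  let e : ι → ℚ := fun i => ({p | p ∈ multPts inc ∧ inc p i}.ncard : ℚ) - h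
  have he : ∀ i, 0 < e i := fun i => by
    simp only [e, sub_pos]
    exact_mod_cast lt_ncard_on_curve hfin hcount hnone hh hd i
  have hG' : ∀ i j, ∑ p : s, M p i * M p j = (h : ℚ) + if i = j then e i else 0 := by
    intro i j
    rw [hG]
    by_cases hij : i = j
    · subst hij
      simp [e]
    · rw [if_neg hij, add_zero, ← hcount i j hij]
      congr 2
      ext p
      exact ⟨fun hp => hp.2, fun hp => ⟨⟨i, j, hij, hp⟩, hp⟩⟩
  have hinj : Function.Injective (Matrix.of M).mulVecLin := by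
    rw [injective_iff_map_eq_zero]
    intro x hx
    have hx' : ∀ p : s, ∑ i, M p i * x i = 0 := fun p => congrFun hx p
    have h0 : (0 : ℚ) = ∑ p : s, (∑ i, M p i * x i) * ∑ j, M p j * x j :=
      (Finset.sum_eq_zero fun p _ => by rw [hx' p, zero_mul]).symm
    have h1 : (0 : ℚ) = ∑ i, ∑ j, x i * x j * ((h : ℚ) + if i = j then e i else 0) := by
      refine h0.trans ?_
      have h5 : ∀ p : s, (∑ i, M p i * x i) * ∑ j, M p j * x j
          = ∑ i, ∑ j, x i * x j * (M p i * M p j) := fun p => by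
        rw [Finset.sum_mul_sum]
        exact Finset.sum_congr rfl fun i _ => Finset.sum_congr rfl fun j _ => by ring
      rw [Finset.sum_congr rfl fun p _ => h5 p, Finset.sum_comm]
      refine Finset.sum_congr rfl fun i _ => ?_
      rw [Finset.sum_comm]
      refine Finset.sum_congr rfl fun j _ => ?_
      rw [← Finset.mul_sum, hG']
    have h2 : (0 : ℚ) = (h : ℚ) * (∑ i, x i) ^ 2 + ∑ i, x i ^ 2 * e i := by
      refine h1.trans ?_
      rw [pow_two, Finset.sum_mul_sum, Finset.mul_sum, ← Finset.sum_add_distrib]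
      refine Finset.sum_congr rfl fun i _ => ?_
      simp only [mul_add, Finset.sum_add_distrib, mul_ite, mul_zero, Finset.sum_ite_eq,
        Finset.mem_univ, if_true, Finset.mul_sum]
      congr 1
      · exact Finset.sum_congr rfl fun j _ => by ring
      · ring
    have h3 : ∀ i ∈ Finset.univ, 0 ≤ x i ^ 2 * e i :=
      fun i _ => mul_nonneg (sq_nonneg _) (he i).le
    have h4 : ∑ i, x i ^ 2 * e i = 0 := by
      have := Finset.sum_nonneg h3
      have : 0 ≤ (h : ℚ) * (∑ i, x i) ^ 2 := by positivity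
      linarith
    funext i
    have := (Finset.sum_eq_zero_iff_of_nonneg h3).mp h4 i (Finset.mem_univ i)
    simpa [(he i).ne'] using this
  have := LinearMap.finrank_le_finrank_of_injective hinj
  simpa [Module.finrank_fintype_fun_eq_card, Set.ncard_eq_toFinset_card _ (finite_multPts hfin),
    s] using this

end Groth.Agent.HarbIncidence
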